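import Cfsg.Agent.H626.IFO.Defs
import Cfsg.Agent.ClassicalGeometry.OrthAut1
import Cfsg.Agent.ClassicalGeometry.OrthAut2b
import Cfsg.Agent.H447.IFO.Solv

/-!
# S5719, `|A|` odd, orthogonal groups: `EvN` for the lift of `R` is impossible (helper626)
-/

set_option autoImplicit false

namespace Cfsg.Agent.H626.IFO

open QuadraticMap Cfsg.Agent.LieClassical.OrthCore Cfsg.Agent.LieClassical.OrthTrans
  Cfsg.Agent.ClassicalGeometry.OrthAut1 Cfsg.Agent.H209.Fxy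

variable {F V : Type*} [Field F] [AddCommGroup V] [Module F V] {Q : QuadraticForm F V}

theorem center_sq (hG : Good Q) {z : ↥(E Q)} (hz : z ∈ Subgroup.center ↥(E Q)) : z * z = 1 := by
  obtain ⟨c, hc⟩ := center_scalar hG hz
  obtain ⟨x, y, hxy⟩ := hG.exists_hyp
  have h1 : c * c = 1 := by
    have h2 := polar_map (E_le_O z.2) x y
    rw [hc, hc, polar_smul_left, polar_smul_right, hxy.pair] at h2
    simpa using h2
  apply Subtype.ext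
  apply LinearEquiv.ext
  intro v
  change (z : V ≃ₗ[F] V) ((z : V ≃ₗ[F] V) v) = v
  rw [hc, hc, smul_smul, h1, one_smul]

/-- **the odd order lift of `R`** -/
theorem exists_hat (hG : Good Q) {R : Subgroup (P Q)} {r : ℕ} (hr : r.Prime) (hr2 : r ≠ 2) (hR : R ≠ ⊥)
    (hpow : ∀ x ∈ R, x ^ r = 1) (hcomm : ∀ x ∈ R, ∀ y ∈ R, x * y = y * x) :
    ∃ H : Subgroup (V ≃ₗ[F] V), H ≤ E Q ∧ H ≠ ⊥ ∧ (∀ x ∈ H, x ^ r = 1) ∧ (∀ x ∈ H, ∀ y ∈ H, x * y = y * x) ∧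
      (∀ (x : V ≃ₗ[F] V) (hx : x ∈ E Q), x ∈ H ↔ x ^ r = 1 ∧ ((⟨x, hx⟩ : E Q) : P Q) ∈ R) ∧
      ∀ ρ ∈ R, ∃ (x : V ≃ₗ[F] V) (hx : x ∈ E Q), x ∈ H ∧ ((⟨x, hx⟩ : E Q) : P Q) = ρ := by
  have hodd := hr.odd_of_ne_two hr2
  have hzr : ∀ z : E Q, z ∈ Subgroup.center (E Q) → z ^ r = z := by
    intro z hz
    obtain ⟨k, hk⟩ := hodd
    rw [hk, pow_succ, pow_mul, pow_two, center_sq hG hz, one_pow, one_mul]
  have hcm : ∀ x y : E Q, x ^ r = 1 → y ^ r = 1 → (x : P Q) ∈ R → (y : P Q) ∈ R → x * y = y * x := by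
    intro x y hx hy hxR hyR
    have h1 : (x * y * x⁻¹ * y⁻¹ : E Q) ∈ Subgroup.center (E Q) := by
      rw [← QuotientGroup.eq_one_iff]
      change (x : P Q) * (y : P Q) * (x : P Q)⁻¹ * (y : P Q)⁻¹ = 1
      rw [hcomm _ hxR _ hyR]
      group
    set z := (x * y * x⁻¹ * y⁻¹ : E Q) with hz
    have h2 : x * y * x⁻¹ = z * y := by rw [hz]; group
    have h3 : (x * y * x⁻¹) ^ r = 1 := by rw [conj_pow, hy, mul_one, mul_inv_cancel]
    have h4 : Commute z y := (Subgroup.mem_center_iff.1 h1 y).symm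
    rw [h2, h4.mul_pow, hy, mul_one, hzr z h1] at h3
    rw [h3, one_mul] at h2
    exact mul_inv_eq_iff_eq_mul.1 h2
  let H : Subgroup (V ≃ₗ[F] V) :=
    { carrier := {x | ∃ hx : x ∈ E Q, x ^ r = 1 ∧ ((⟨x, hx⟩ : E Q) : P Q) ∈ R}
      one_mem' := ⟨one_mem _, one_pow _, one_mem R⟩
      mul_mem' := by
        rintro x y ⟨hx, hxr, hxR⟩ ⟨hy, hyr, hyR⟩
        refine ⟨mul_mem hx hy, ?_, R.mul_mem hxR hyR⟩
        have h1 : Commute x y :=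
          congrArg Subtype.val (hcm ⟨x, hx⟩ ⟨y, hy⟩ (Subtype.ext hxr) (Subtype.ext hyr) hxR hyR)
        rw [h1.mul_pow, hxr, hyr, one_mul]
      inv_mem' := by
        rintro x ⟨hx, hxr, hxR⟩
        refine ⟨inv_mem hx, ?_, R.inv_mem hxR⟩
        rw [inv_pow, hxr, inv_one] }
  have hlift : ∀ ρ ∈ R, ∃ (x : V ≃ₗ[F] V) (hx : x ∈ E Q), x ∈ H ∧ ((⟨x, hx⟩ : E Q) : P Q) = ρ := by
    intro ρ hρ
    obtain ⟨x, rfl⟩ := QuotientGroup.mk_surjective ρ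
    have h1 : x ^ r ∈ Subgroup.center (E Q) := by
      rw [← QuotientGroup.eq_one_iff]
      exact hpow _ hρ
    have h2 : ((x * x ^ r : E Q) : P Q) = x := by
      rw [QuotientGroup.mk_mul, (QuotientGroup.eq_one_iff _).2 h1, mul_one]
    have h3 : (x * x ^ r) ^ r = 1 := by
      have h4 : Commute x (x ^ r) := (Commute.refl x).pow_right r
      rw [h4.mul_pow, hzr _ h1, center_sq hG h1]
    refine ⟨((x * x ^ r : E Q) : V ≃ₗ[F] V), (x * x ^ r : E Q).2, ⟨(x * x ^ r : E Q).2, congrArg Subtype.val h3, ?_⟩, h2⟩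
    rw [← h2] at hρ
    exact hρ
  refine ⟨H, fun x hx => hx.1, ?_, fun x hx => hx.2.1, ?_, fun x hx => ⟨fun h => h.2, fun h => ⟨hx, h⟩⟩, hlift⟩
  · intro h0
    apply hR
    rw [Subgroup.eq_bot_iff_forall]
    intro ρ hρ
    obtain ⟨x, hx, hxH, rfl⟩ := hlift ρ hρ
    rw [h0, Subgroup.mem_bot] at hxH
    subst hxH
    rfl
  · rintro x ⟨hx, hxr, hxR⟩ y ⟨hy, hyr, hyR⟩
    exact congrArg Subtype.val (hcm ⟨x, hx⟩ ⟨y, hy⟩ (Subtype.ext hxr) (Subtype.ext hyr) hxR hyR)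

/-- **`EvN` is impossible for the lift of `R`** -/
theorem false_of_evN [Finite F] (hG : Good Q) {A : Subgroup (P Q)} {Γ : Subgroup (MulAut (P Q))} (h : IF A Γ)
    (hodd : Odd (Nat.card A)) {r : ℕ} {R : Subgroup (P Q)} (hRA : R ≤ A) (hR : R ≠ ⊥)
    (hinv : ∀ σ ∈ Γ, ∀ x ∈ R, σ x ∈ R) {H : Subgroup (V ≃ₗ[F] V)}
    (hH : ∀ (x : V ≃ₗ[F] V) (hx : x ∈ E Q), x ∈ H ↔ x ^ r = 1 ∧ ((⟨x, hx⟩ : E Q) : P Q) ∈ R)
    (hlift : ∀ ρ ∈ R, ∃ (x : V ≃ₗ[F] V) (hx : x ∈ E Q), x ∈ H ∧ ((⟨x, hx⟩ : E Q) : P Q) = ρ)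
    (hE : EvN Q H) : False := by
  have hfd : Module.Finite F V := Module.finite_of_finrank_pos (by have := hG.dim; omega)
  have hP : Finite (P Q) := Cfsg.Agent.ClassicalGeometry.OrthAut2b.finite_P (F := F) (V := V)
  have := Cfsg.Agent.LieClassical.OrthSimple.good_isSimpleGroup hG
  obtain ⟨y, hy, hyn, hys⟩ := hE
  have h1 : Odd (orderOf ((⟨y, hy⟩ : E Q) : P Q)) := by
    refine H447.IFO.odd_orderOf h hodd hRA hR hinv ?_
    intro ρ hρ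
    obtain ⟨x, hx, hxH, rfl⟩ := hlift ρ hρ
    have h2 := hyn x hxH
    exact ((hH _ (mul_mem (mul_mem hy hx) (inv_mem hy))).1 h2).2
  apply hys _ h1
  have h2 : (⟨y, hy⟩ : E Q) ^ (orderOf ((⟨y, hy⟩ : E Q) : P Q)) ∈ Subgroup.center (E Q) := by
    rw [← QuotientGroup.eq_one_iff, QuotientGroup.mk_pow]
    exact pow_orderOf_eq_one _
  obtain ⟨c, hc⟩ := center_scalar hG h2
  exact ⟨c, hc⟩

end Cfsg.Agent.H626.IFO
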