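import Cfsg.Agent.H626.IFO.Four
import Cfsg.Agent.H626.IFO.Glue
import Cfsg.Agent.H22.IFO.Uni
import Cfsg.Agent.AutOrth.Main

/-!
# S5719, `|A|` odd: the orthogonal groups of dimension divisible by four (helper626)
-/

set_option autoImplicit false

namespace Cfsg.Agent.H626.IFO

open QuadraticMap Cfsg.Agent.LieClassical.OrthCore Cfsg.Agent.LieClassical.OrthTrans
  Cfsg.Agent.ClassicalGeometry.OrthAut1 Cfsg.Agent.H209.Fxy

/-- **`KillO` for `4 ∣ n`**, no condition on `Γ` -/
theorem killO_four {F V : Type*} [Field F] [AddCommGroup V] [Module F V] {Q : QuadraticForm F V} [Finite F]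
    (hG : Good Q) (h4 : 4 ∣ Module.finrank F V) : KillO (P Q) := by
  intro A Γ h hodd
  have hfd : Module.Finite F V := Module.finite_of_finrank_pos (by have := hG.dim; omega)
  have hP : Finite (P Q) := Cfsg.Agent.ClassicalGeometry.OrthAut2b.finite_P (F := F) (V := V)
  obtain ⟨r, R, hr, hr2, hRA, hR, hpow, hcomm, hinv⟩ := H447.IFO.exists_elemAb h hodd
  obtain ⟨H, hHE, hHb, hHp, hHc, hH, hlift⟩ := exists_hat hG hr hr2 hR hpow hcomm
  have h7 : 7 ≤ Module.finrank F V := by
    have := hG.dim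
    omega
  by_cases hrF : (r : F) = 0
  · by_cases h2 : (2 : F) = 0
    · -- `r = 2`
      exfalso
      apply hr2
      have h5 : ringChar F ∣ r := ringChar.dvd hrF
      have h6 : ringChar F ∣ 2 := ringChar.dvd (by exact_mod_cast h2)
      have h7 : ringChar F ≠ 1 := CharP.ringChar_ne_one
      have h8 := ((Nat.dvd_prime hr).1 h5).resolve_left h7
      have h9 := ((Nat.dvd_prime Nat.prime_two).1 h6).resolve_left h7
      rw [← h8, h9]
    · exact H22.IFO.no_p hG h hodd hr hr2 hRA hR hpow hcomm hinv h2 h7 hrF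
  · have hVf : Finite V := Module.finite_of_finite F
    have : Finite (V ≃ₗ[F] V) := Finite.of_injective (fun f : V ≃ₗ[F] V => (f : V → V)) DFunLike.coe_injective
    exact false_of_evN hG h hodd hRA hR hinv hH hlift
      (evN_four hG h4 (hHE.trans E_le_O) hHc hr hr2 hrF hHp hHb)

/-- transport -/
theorem killO_congr {T T' : Type*} [Group T] [Group T'] (e : T ≃* T') (h : KillO T) : KillO T' := by
  intro A Γ hA ho
  refine h _ _ (hA.map e.symm) ?_
  rwa [Nat.card_congr (A.equivMapOfInjective e.symm.toMonoidHom e.symm.injective).toEquiv.symm]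

/-- the form on `F ^ ι` -/
theorem killO_POmega {ι : Type} [Fintype ι] [DecidableEq ι] {F : Type*} [Field F] [Finite F]
    {Q : QuadraticForm F (ι → F)} (hG : Good Q) (h : KillO (P Q)) : KillO (Cfsg.POmega F ⇑Q) :=
  killO_congr (Cfsg.Agent.AutOrth.Main.pe hG).symm h

/-- **plus type, `m` even** (`O8+` with triality included) -/
theorem plus_O_even {F : Type} [Field F] [Fintype F] {m : ℕ} (hm : 4 ≤ m) (he : Even m) :
    KillO (Cfsg.POmega F (Cfsg.quadFormPlus m F)) := by
  have hfr : Module.finrank F (Fin m ⊕ Fin m → F) = 2 * m := by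
    rw [Module.finrank_fintype_fun_eq_card, Fintype.card_sum, Fintype.card_fin]
    ring
  have hG : Good (Cfsg.Agent.LieClassical.OrthForms.plusForm m F) :=
    Cfsg.Agent.LieClassical.OrthFinite.good_of_finite (Cfsg.Agent.LieClassical.OrthForms.nondeg_plusForm _ _) (by omega)
  rw [← Cfsg.Agent.LieClassical.OrthForms.coe_plusForm]
  apply killO_POmega hG
  apply killO_four hG
  rw [hfr]
  obtain ⟨k, rfl⟩ := he
  exact ⟨k, by ring⟩

/-- **minus type, `m` even** -/
theorem minus_O_even {F : Type} [Field F] [Fintype F] {m : ℕ} (a b : F) (hm : 4 ≤ m) (he : Even m)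
    (hab : ∀ z₁ z₂ : F, z₁ ^ 2 + a * z₁ * z₂ + b * z₂ ^ 2 = 0 → z₁ = 0 ∧ z₂ = 0) :
    KillO (Cfsg.POmega F (Cfsg.quadFormMinus (m - 1) F a b)) := by
  have hfr : Module.finrank F ((Fin (m - 1) ⊕ Fin (m - 1)) ⊕ Fin 2 → F) = 2 * m := by
    rw [Module.finrank_fintype_fun_eq_card, Fintype.card_sum, Fintype.card_sum, Fintype.card_fin, Fintype.card_fin]
    omega
  have hG : Good (Cfsg.Agent.LieClassical.OrthForms.minusForm (m - 1) F a b) :=
    Cfsg.Agent.LieClassical.OrthFinite.good_of_finite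
      (Cfsg.Agent.LieClassical.OrthForms.nondeg_minusForm (m - 1) F a b hab) (by omega)
  rw [← Cfsg.Agent.LieClassical.OrthForms.coe_minusForm]
  apply killO_POmega hG
  apply killO_four hG
  rw [hfr]
  obtain ⟨k, rfl⟩ := he
  exact ⟨k, by ring⟩

end Cfsg.Agent.H626.IFO
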