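import Cfsg.Agent.LieClassical.OrthFinite

/-!
# S5719, `|A|` odd, orthogonal groups: the target property `EvN` (helper626)
-/

set_option autoImplicit false

namespace Cfsg.Agent.H626.IFO

open QuadraticMap Cfsg.Agent.LieClassical.OrthCore

/-- some element of `Ω(Q)` normalising `R` has even order modulo scalars -/
def EvN {F V : Type*} [Field F] [AddCommGroup V] [Module F V] (Q : QuadraticForm F V)
    (R : Subgroup (V ≃ₗ[F] V)) : Prop :=
  ∃ y ∈ E Q, (∀ x ∈ R, y * x * y⁻¹ ∈ R) ∧ ∀ k : ℕ, Odd k → ¬ ∃ c : F, ∀ v, (y ^ k) v = c • v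

/-- an involution of `Ω(Q)` normalising `R`, different from `1` and `-1` -/
theorem EvN.of_inv {F V : Type*} [Field F] [AddCommGroup V] [Module F V] {Q : QuadraticForm F V}
    {R : Subgroup (V ≃ₗ[F] V)} {y : V ≃ₗ[F] V} (hy : y ∈ E Q) (hn : ∀ x ∈ R, y * x * y⁻¹ ∈ R) (h2 : y * y = 1)
    (hs : ¬ ∃ c : F, ∀ v, y v = c • v) : EvN Q R := by
  refine ⟨y, hy, hn, fun k hk => ?_⟩
  obtain ⟨j, rfl⟩ := hk
  have h1 : y ^ (2 * j + 1) = y := by rw [pow_succ, pow_mul, pow_two, h2, one_pow, one_mul]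
  rw [h1]
  exact hs

end Cfsg.Agent.H626.IFO
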