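import Cfsg.Agent.H626.IFO.Rank
import Cfsg.Agent.H353.IFO.Idx
import Cfsg.Agent.H442.IFO.Frob
import Cfsg.Agent.H283.Fxo.Swap

/-!
# S5719, `|A|` odd, orthogonal groups of dimension divisible by four (helper626)
-/

set_option autoImplicit false

namespace Cfsg.Agent.H626.IFO

open QuadraticMap Cfsg.Agent.LieClassical.OrthCore Cfsg.Agent.LieClassical.OrthTrans Module Cfsg.Agent.H382.Own5

variable {F V : Type*} [Field F] [AddCommGroup V] [Module F V] {Q : QuadraticForm F V}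
  {R : Subgroup (V ≃ₗ[F] V)}

/-- `g` inverts `R` -/
def Anti (R : Subgroup (V ≃ₗ[F] V)) (g : V ≃ₗ[F] V) : Prop := ∀ x ∈ R, ∀ v, g (x v) = (x⁻¹ : V ≃ₗ[F] V) (g v)

/-- `g` centralises `R` -/
def Cen (R : Subgroup (V ≃ₗ[F] V)) (g : V ≃ₗ[F] V) : Prop := ∀ x ∈ R, ∀ v, g (x v) = x (g v)

theorem Anti.mul_cen {g s : V ≃ₗ[F] V} (hg : Anti R g) (hs : Cen R s) : Anti R (g * s) := by
  intro x hx v
  change g (s (x v)) = (x⁻¹ : V ≃ₗ[F] V) (g (s v))
  rw [hs x hx, hg x hx]

theorem Cen.norm {g : V ≃ₗ[F] V} (hg : Cen R g) : ∀ x ∈ R, g * x * g⁻¹ ∈ R := by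
  intro x hx
  have h1 : g * x * g⁻¹ = x := by
    apply LinearEquiv.ext
    intro v
    change g (x (g⁻¹ v)) = x v
    rw [hg x hx]
    exact congrArg x (LinearEquiv.apply_symm_apply g v)
  rw [h1]
  exact hx

theorem EvN.of_anti (hodd : ∀ x ∈ R, ∀ v, x (x v) = v → x v = v) (hR1 : R ≠ ⊥) {y : V ≃ₗ[F] V} (hy : y ∈ E Q)
    (h : Anti R y) : EvN Q R := by
  refine ⟨y, hy, ?_, ?_⟩
  · intro x hx
    have h1 : y * x * y⁻¹ = x⁻¹ := by
      apply LinearEquiv.ext
      intro v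
      change y (x (y⁻¹ v)) = (x⁻¹ : V ≃ₗ[F] V) v
      rw [h x hx]
      exact congrArg (x⁻¹ : V ≃ₗ[F] V) (LinearEquiv.apply_symm_apply y v)
    rw [h1]
    exact inv_mem hx
  · rintro k ⟨j, rfl⟩ ⟨c, hcs⟩
    have heven : ∀ i : ℕ, ∀ x ∈ R, ∀ v, (y ^ (2 * i)) (x v) = x ((y ^ (2 * i)) v) := by
      intro i
      induction i with
      | zero => intro x _ v; rfl
      | succ i ih =>
        intro x hx v
        have e : y ^ (2 * (i + 1)) = y ^ (2 * i) * (y * y) := by rw [← pow_two, ← pow_add]; ring_nf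
        rw [e]
        change (y ^ (2 * i)) (y (y (x v))) = x ((y ^ (2 * i)) (y (y v)))
        rw [h x hx, h _ (inv_mem hx), inv_inv, ih x hx]
    apply hR1
    rw [Subgroup.eq_bot_iff_forall]
    intro x hx
    apply LinearEquiv.ext
    intro v
    apply hodd x hx
    have h1 : (y ^ (2 * j + 1)) (x v) = (x⁻¹ : V ≃ₗ[F] V) ((y ^ (2 * j + 1)) v) := by
      rw [pow_succ]
      change (y ^ (2 * j)) (y (x v)) = (x⁻¹ : V ≃ₗ[F] V) ((y ^ (2 * j)) (y v))
      rw [h x hx, heven j _ (inv_mem hx)]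
    rw [hcs, hcs, map_smul] at h1
    by_cases hc0 : c = 0
    · have h2 : ∀ w : V, w = 0 := by
        intro w
        have h3 := hcs w
        rw [hc0, zero_smul] at h3
        exact (LinearEquiv.map_eq_zero_iff _).1 h3
      rw [h2 v, map_zero, map_zero]
    · have h2 : x v = (x⁻¹ : V ≃ₗ[F] V) v := by
        have h3 := congrArg (fun w => c⁻¹ • w) h1
        simpa only [smul_smul, inv_mul_cancel₀ hc0, one_smul] using h3
      rw [h2]
      exact LinearEquiv.apply_symm_apply x v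

theorem nd_Fx [Fintype R] (hQ : Nondeg Q) (hR : R ≤ O Q) (hcard : (Fintype.card R : F) ≠ 0) : ND Q (Fx R) := by
  intro v hv h
  apply hQ
  intro y
  have h1 : polarBilin Q v (es R y) = polar Q v y := by
    rw [es_apply, map_smul, map_sum]
    have h2 : ∀ x : R, polarBilin Q v ((x : V ≃ₗ[F] V) y) = polar Q v y := by
      intro x
      rw [polarBilin_apply_apply, polar_comm, polar_inv hR x.2, hv _ (inv_mem x.2), polar_comm]
    rw [Finset.sum_congr rfl (fun x _ => h2 x), Finset.sum_const, Finset.card_univ, ← Nat.cast_smul_eq_nsmul F,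
      smul_smul, inv_mul_cancel₀ hcard, one_smul]
  rw [← h1]
  exact h _ (es_mem_Fx y)

theorem exists_nonsing_Fx {W : Submodule F V} (hW : ND Q W) (hne : W ≠ ⊥) : ∃ v ∈ W, Q v ≠ 0 := by
  by_contra hcon
  push Not at hcon
  apply hne
  rw [Submodule.eq_bot_iff]
  intro v hv
  apply hW v hv
  intro w hw
  have h1 := Q_add (Q := Q) v w
  rw [hcon v hv, hcon w hw, hcon _ (W.add_mem hv hw), zero_add, zero_add] at h1
  exact h1.symm

theorem cen_refl (hR : R ≤ O Q) {v : V} (hv : v ∈ Fx R) (hQv : Q v ≠ 0) : Cen R (refl Q v hQv) := by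
  intro x hx w
  rw [refl_apply, refl_apply, map_sub, map_smul, hv x hx]
  have h1 : polar Q v (x w) = polar Q v w := by rw [polar_comm, polar_inv hR hx, hv _ (inv_mem hx), polar_comm]
  rw [h1]

/-- minus one on `W`, one on the orthogonal space -/
theorem exists_neg [FiniteDimensional F V] (hQ : Nondeg Q) {W : Submodule F V} (hW : ND Q W) :
    ∃ z ∈ O Q, (∀ v ∈ W, z v = -v) ∧ ∀ v ∈ perp Q W, z v = v := by
  let p : (W ⊕ perp Q W) → V := Sum.elim (fun v => (v : V)) (fun v => (v : V))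
  let p' : (W ⊕ perp Q W) → V := Sum.elim (fun v => -(v : V)) (fun v => (v : V))
  have hsp : Submodule.span F (Set.range p) = ⊤ := by
    rw [eq_top_iff]
    intro v _
    obtain ⟨w, hw, z, hz, rfl⟩ := split hW v
    exact add_mem (Submodule.subset_span ⟨Sum.inl ⟨w, hw⟩, rfl⟩) (Submodule.subset_span ⟨Sum.inr ⟨z, hz⟩, rfl⟩)
  have hsp' : Submodule.span F (Set.range p') = ⊤ := by
    rw [eq_top_iff]
    intro v _
    obtain ⟨w, hw, z, hz, rfl⟩ := split hW v
    refine add_mem (Submodule.subset_span ⟨Sum.inl ⟨-w, neg_mem hw⟩, ?_⟩) (Submodule.subset_span ⟨Sum.inr ⟨z, hz⟩, rfl⟩)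
    exact neg_neg w
  obtain ⟨z, hz, hzp⟩ := exists_isom hQ p p' (by
      rintro (v | v)
      · exact (QuadraticMap.map_neg Q (v : V)).symm
      · rfl) (by
      rintro (v | v) (w | w)
      · change polar Q (v : V) (w : V) = polar Q (-(v : V)) (-(w : V))
        rw [polar_neg_left, polar_neg_right, neg_neg]
      · change polar Q (v : V) (w : V) = polar Q (-(v : V)) (w : V)
        rw [polar_neg_left, polar_comm, w.2 v v.2, neg_zero]
      · change polar Q (v : V) (w : V) = polar Q (v : V) (-(w : V))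
        rw [polar_neg_right, v.2 w w.2, neg_zero]
      · rfl) hsp hsp'
  exact ⟨z, hz, fun v hv => hzp (Sum.inl ⟨v, hv⟩), fun v hv => hzp (Sum.inr ⟨v, hv⟩)⟩

theorem det_neg [FiniteDimensional F V] (h2 : (2 : F) ≠ 0) {W : Submodule F V} (hW : ND Q W) {z : V ≃ₗ[F] V}
    (hz1 : ∀ v ∈ W, z v = -v) (hz2 : ∀ v ∈ perp Q W, z v = v) :
    LinearMap.det (z : V →ₗ[F] V) = (-1) ^ finrank F W := by
  have hzz : ∀ v, z (z v) = v := by
    intro v
    obtain ⟨w, hw, a, ha, rfl⟩ := split hW v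
    rw [map_add, map_add, hz1 w hw, map_neg, hz1 w hw, hz2 a ha, hz2 a ha, neg_neg]
  have hW' : eig (z : V →ₗ[F] V) (-1) = W := by
    ext v
    rw [mem_eig, neg_smul, one_smul]
    constructor
    · intro hv
      obtain ⟨w, hw, a, ha, rfl⟩ := split hW v
      have h3 : -w + a = -w - a := by
        have h4 : z (w + a) = -(w + a) := hv
        rw [map_add, hz1 w hw, hz2 a ha] at h4
        rw [h4]; abel
      have h5 : (2 : F) • a = 0 := by
        rw [two_smul]
        have h6 : a + a = (-w + a) - (-w - a) := by abel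
        rw [h6, h3, sub_self]
      rw [(smul_eq_zero.1 h5).resolve_left h2, add_zero]
      exact hw
    · intro hv
      exact hz1 v hv
  rw [det_invol h2 (s := (z : V →ₗ[F] V)) hzz, hW']

theorem cen_neg [FiniteDimensional F V] (hR : R ≤ O Q) {W : Submodule F V} (hW : ND Q W) (hWi : Inv R W)
    {z : V ≃ₗ[F] V} (hz1 : ∀ v ∈ W, z v = -v) (hz2 : ∀ v ∈ perp Q W, z v = v) : Cen R z := by
  intro x hx v
  obtain ⟨w, hw, a, ha, rfl⟩ := split hW v
  rw [map_add, map_add, map_add, map_add, hz1 w hw, hz1 _ (hWi x hx w hw), hz2 a ha,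
    hz2 _ (inv_perp hR hWi x hx a ha), map_neg]

theorem EvN.of_neg [FiniteDimensional F V] (hR : R ≤ O Q) (h2 : (2 : F) ≠ 0) {W : Submodule F V} (hW : ND Q W)
    (hWi : Inv R W) (hW1 : W ≠ ⊥) (hW2 : perp Q W ≠ ⊥) {z : V ≃ₗ[F] V} (hz1 : ∀ v ∈ W, z v = -v)
    (hz2 : ∀ v ∈ perp Q W, z v = v) (hz : z ∈ E Q) : EvN Q R := by
  refine EvN.of_inv hz (Cen.norm (cen_neg hR hW hWi hz1 hz2)) ?_ ?_
  · apply LinearEquiv.ext
    intro v
    change z (z v) = v
    obtain ⟨w, hw, a, ha, rfl⟩ := split hW v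
    rw [map_add, map_add, hz1 w hw, map_neg, hz1 w hw, hz2 a ha, hz2 a ha, neg_neg]
  · rintro ⟨c, hcs⟩
    obtain ⟨w, hw, hw0⟩ := Submodule.exists_mem_ne_zero_of_ne_bot hW1
    obtain ⟨a, ha, ha0⟩ := Submodule.exists_mem_ne_zero_of_ne_bot hW2
    have h3 : c = 1 := by
      have h4 := hcs a
      rw [hz2 a ha] at h4
      have h5 : (c - 1) • a = 0 := by rw [sub_smul, one_smul, ← h4, sub_self]
      exact sub_eq_zero.1 ((smul_eq_zero.1 h5).resolve_right ha0)
    have h4 := hcs w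
    rw [hz1 w hw, h3, one_smul] at h4
    have h5 : (2 : F) • w = 0 := by
      rw [two_smul]
      nth_rewrite 1 [← h4]
      rw [neg_add_cancel]
    exact hw0 ((smul_eq_zero.1 h5).resolve_left h2)

theorem EvN.of_refl (hQ : Nondeg Q) (hR : R ≤ O Q) (hp : perp Q (Fx R) ≠ ⊥) {v : V} (hv : v ∈ Fx R)
    (hQv : Q v ≠ 0) (hs : refl Q v hQv ∈ E Q) : EvN Q R := by
  refine EvN.of_inv hs (Cen.norm (cen_refl hR hv hQv)) (refl_mul_self hQv) ?_
  rintro ⟨c, hcs⟩
  obtain ⟨w, hw, hw0⟩ := Submodule.exists_mem_ne_zero_of_ne_bot hp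
  have h1 : c = 1 := by
    have h4 := hcs w
    rw [refl_apply, polar_comm, hw v hv, mul_zero, zero_smul, sub_zero] at h4
    have h5 : (c - 1) • w = 0 := by rw [sub_smul, one_smul, ← h4, sub_self]
    exact sub_eq_zero.1 ((smul_eq_zero.1 h5).resolve_right hw0)
  apply hQv
  have hv0 : v = 0 := by
    by_contra hv0
    obtain ⟨y, hy⟩ := hQ.exists_polar_ne hv0
    have h4 := hcs y
    rw [refl_apply, h1, one_smul, sub_eq_self, smul_eq_zero] at h4
    rcases h4 with h4 | h4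
    · exact (mul_ne_zero (inv_ne_zero hQv) hy) h4
    · exact hv0 h4
  rw [hv0, QuadraticMap.map_zero]

/-- the data attached to `R` -/
structure Dat (Q : QuadraticForm F V) (R : Subgroup (V ≃ₗ[F] V)) : Prop where
  good : Good Q
  le : R ≤ O Q
  comm : ∀ x ∈ R, ∀ y ∈ R, x * y = y * x
  card : (Nat.card R : F) ≠ 0
  odd : ∀ x ∈ R, ∀ v, x (x v) = v → x v = v
  ne : R ≠ ⊥

section Dat

variable [FiniteDimensional F V] [Finite R]

theorem Dat.nd_Fx (h : Dat Q R) : ND Q (Fx R) := by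
  have : Fintype R := Fintype.ofFinite R
  exact IFO.nd_Fx h.good.nondeg h.le (by rw [← Nat.card_eq_fintype_card]; exact h.card)

theorem Dat.perp_ne (h : Dat Q R) : perp Q (Fx R) ≠ ⊥ := by
  intro h0
  apply h.ne
  rw [Subgroup.eq_bot_iff_forall]
  intro x hx
  apply LinearEquiv.ext
  intro v
  obtain ⟨w, hw, z, hz, rfl⟩ := split h.nd_Fx v
  rw [h0, Submodule.mem_bot] at hz
  rw [hz, add_zero]
  exact hw x hx

theorem Dat.inf_eq (h : Dat Q R) : perp Q (Fx R) ⊓ Fx R = ⊥ := by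
  rw [eq_bot_iff]
  rintro v ⟨hv1, hv2⟩
  exact h.nd_Fx v hv2 hv1

theorem Dat.inv (h : Dat Q R) {W : Submodule F V} (hW : ND Q W) (hWi : Inv R W) (hW0 : W ⊓ Fx R = ⊥) :
    ∃ g ∈ O Q, (∀ v, g (g v) = v) ∧ (∀ v ∈ perp Q W, g v = v) ∧ (∀ v ∈ W, g v ∈ W) ∧
      ∀ x ∈ R, ∀ v ∈ W, g (x v) = (x⁻¹ : V ≃ₗ[F] V) (g v) := by
  have : Fintype R := Fintype.ofFinite R
  exact exists_inv h.good.nondeg h.le h.comm (by rw [← Nat.card_eq_fintype_card]; exact h.card) h.odd hW hWi hW0

theorem Dat.even (h : Dat Q R) (h2 : (2 : F) ≠ 0) {W : Submodule F V} (hW : ND Q W) (hWi : Inv R W)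
    (hW0 : W ⊓ Fx R = ⊥) : Even (finrank F W) := by
  obtain ⟨g, -, hg2, hgp, hgW, hgx⟩ := h.inv hW hWi hW0
  rw [finrank_eq h2 h.comm h.card h.odd hW hWi hW0 (g := (g : V →ₗ[F] V)) hg2 hgp hgW hgx]
  exact even_two_mul _

/-- the global inverting isometry -/
theorem Dat.anti (h : Dat Q R) : ∃ g ∈ O Q, (∀ v, g (g v) = v) ∧ (∀ v ∈ Fx R, g v = v) ∧ Anti R g := by
  obtain ⟨g, hg, hg2, hgp, hgW, hgx⟩ := h.inv (nd_perp h.good.nondeg h.nd_Fx)
    (inv_perp h.le (inv_Fx h.comm le_rfl)) h.inf_eq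
  have hF : ∀ v ∈ Fx R, g v = v := fun v hv => hgp v (perp_perp_le hv)
  refine ⟨g, hg, hg2, hF, ?_⟩
  intro x hx v
  obtain ⟨w, hw, z, hz, rfl⟩ := split h.nd_Fx v
  rw [map_add, map_add, map_add, map_add, hgx x hx z hz, hw x hx, hF w hw, hw _ (inv_mem hx)]

/-- an inverting isometry of determinant one -/
theorem Dat.anti_det (h : Dat Q R) (h2 : (2 : F) ≠ 0) (h4 : 4 ∣ finrank F V) :
    ∃ g ∈ O Q, LinearMap.det (g : V →ₗ[F] V) = 1 ∧ Anti R g := by
  obtain ⟨g, hg, hg2, hgF, hga⟩ := h.anti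
  by_cases h0 : Fx R = ⊥
  · refine ⟨g, hg, ?_, hga⟩
    have hT : ND Q (⊤ : Submodule F V) := fun w _ hw => h.good.nondeg w (fun y => hw y trivial)
    have hfr := finrank_eq (W := (⊤ : Submodule F V)) h2 h.comm h.card h.odd hT (fun _ _ _ _ => trivial)
      (by rw [h0, inf_bot_eq]) (g := (g : V →ₗ[F] V)) hg2
      (fun v hv => by
        have h5 : v = 0 := h.good.nondeg v (fun y => hv y trivial)
        rw [h5, map_zero])
      (fun _ _ => trivial) (fun x hx v _ => hga x hx v)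
    rw [finrank_top] at hfr
    rw [det_invol h2 (s := (g : V →ₗ[F] V)) hg2]
    apply Even.neg_one_pow
    rw [even_iff_two_dvd]
    obtain ⟨k, hk⟩ := h4
    exact ⟨k, by omega⟩
  · obtain ⟨v, hv, hQv⟩ := exists_nonsing_Fx h.nd_Fx h0
    have hd := det_invol h2 (s := (g : V →ₗ[F] V)) hg2
    rcases Nat.even_or_odd (finrank F (eig (g : V →ₗ[F] V) (-1))) with he | he
    · exact ⟨g, hg, by rw [hd, he.neg_one_pow], hga⟩
    · refine ⟨g * refl Q v hQv, (O Q).mul_mem hg (refl_mem_O hQv), ?_, hga.mul_cen (cen_refl h.le hv hQv)⟩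
      have h5 : ((g * refl Q v hQv : V ≃ₗ[F] V) : V →ₗ[F] V) =
          (g : V →ₗ[F] V) ∘ₗ ((refl Q v hQv : V ≃ₗ[F] V) : V →ₗ[F] V) := rfl
      rw [h5, LinearMap.det_comp, hd, he.neg_one_pow, H353.IFO.det_refl hQv]
      ring

/-- characteristic `≠ 2`, a decomposition -/
theorem Dat.evN_of_dec [Finite F] (h : Dat Q R) (h2 : (2 : F) ≠ 0) (h4 : 4 ∣ finrank F V) {W : Submodule F V} (hW : ND Q W)
    (hWi : Inv R W) (hW0 : W ⊓ Fx R = ⊥) (hW1 : W ≠ ⊥) (hW2 : perp Q W ≠ ⊥) : EvN Q R := by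
  obtain ⟨g, hg, hgd, hga⟩ := h.anti_det h2 h4
  by_cases hgE : g ∈ E Q
  · exact EvN.of_anti h.odd h.ne hgE hga
  obtain ⟨z, hz, hz1, hz2⟩ := exists_neg h.good.nondeg hW
  by_cases hzE : z ∈ E Q
  · exact EvN.of_neg h.le h2 hW hWi hW1 hW2 hz1 hz2 hzE
  have hzd : LinearMap.det (z : V →ₗ[F] V) = 1 := by
    rw [det_neg h2 hW hz1 hz2, (h.even h2 hW hWi hW0).neg_one_pow]
  exact EvN.of_anti h.odd h.ne (H353.IFO.mul_mem_det h2 h.good hg hz hgd hzd hgE hzE)
    (hga.mul_cen (cen_neg h.le hW hWi hz1 hz2))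

theorem Dat.evN_two [Finite F] (h : Dat Q R) (h2 : (2 : F) = 0) (h4 : 4 ∣ finrank F V) : EvN Q R := by
  obtain ⟨g, hg, hg2, hgF, hga⟩ := h.anti
  by_cases hgE : g ∈ E Q
  · exact EvN.of_anti h.odd h.ne hgE hga
  by_cases h0 : Fx R = ⊥
  · exfalso
    apply hgE
    apply H353.IFO.mem_of_even h2 h.good hg
    have : Fintype R := Fintype.ofFinite R
    have h5 := finrank_range h2 h.odd h0 (g := (g : V →ₗ[F] V)) hg2 hga
    rw [even_iff_two_dvd]
    obtain ⟨k, hk⟩ := h4
    exact ⟨k, by omega⟩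
  · obtain ⟨v, hv, hQv⟩ := exists_nonsing_Fx h.nd_Fx h0
    by_cases hs : refl Q v hQv ∈ E Q
    · exact EvN.of_refl h.good.nondeg h.le h.perp_ne hv hQv hs
    · exact EvN.of_anti h.odd h.ne (H353.IFO.mul_mem_two h2 h.good hg (refl_mem_O hQv) hgE hs)
        (hga.mul_cen (cen_refl h.le hv hQv))

/-- characteristic `≠ 2`: fixed vectors -/
theorem Dat.evN_fix [Finite F] (h : Dat Q R) (h2 : (2 : F) ≠ 0) (h4 : 4 ∣ finrank F V) (h0 : Fx R ≠ ⊥) : EvN Q R := by
  refine h.evN_of_dec h2 h4 (nd_perp h.good.nondeg h.nd_Fx) (inv_perp h.le (inv_Fx h.comm le_rfl)) h.inf_eq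
    h.perp_ne ?_
  intro h1
  apply h0
  rw [eq_bot_iff, ← h1]
  exact perp_perp_le

theorem finrank_perp (hQ : Nondeg Q) (W : Submodule F V) : finrank F (perp Q W) = finrank F V - finrank F W := by
  have h1 : perp Q W = LinearMap.BilinForm.orthogonal (polarBilin Q) W := by
    ext v
    rw [mem_perp, LinearMap.BilinForm.mem_orthogonal_iff]
    constructor
    · intro h w hw
      change polar Q w v = 0
      rw [polar_comm]
      exact h w hw
    · intro h w hw
      rw [polar_comm]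
      exact h w hw
  rw [h1]
  apply LinearMap.BilinForm.finrank_orthogonal
  refine ⟨fun x hx => hQ x hx, fun x hx => hQ x (fun y => ?_)⟩
  rw [polar_comm]
  exact hx y

theorem perp_perp (hQ : Nondeg Q) (W : Submodule F V) : perp Q (perp Q W) = W := by
  symm
  apply Submodule.eq_of_le_of_finrank_le perp_perp_le
  rw [finrank_perp hQ, finrank_perp hQ]
  have := Submodule.finrank_le W
  omega

omit [FiniteDimensional F V] [Finite R] in
theorem comm_adjoin (hc : ∀ x ∈ R, ∀ y ∈ R, x * y = y * x) {a : Module.End F V}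
    (ha : a ∈ Algebra.adjoin F {a : Module.End F V | ∃ x ∈ R, a = (x : V →ₗ[F] V)}) :
    ∀ x ∈ R, ∀ v, a (x v) = x (a v) := by
  induction ha using Algebra.adjoin_induction with
  | mem a ha =>
    obtain ⟨y, hy, rfl⟩ := ha
    intro x hx v
    change y (x v) = x (y v)
    rw [← LinearEquiv.mul_apply, hc y hy x hx]
    rfl
  | algebraMap c =>
    intro x hx v
    rw [Module.algebraMap_end_apply, Module.algebraMap_end_apply, map_smul]
  | add a b _ _ ha hb =>
    intro x hx v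
    rw [LinearMap.add_apply, LinearMap.add_apply, map_add, ha x hx, hb x hx]
  | mul a b _ _ ha hb =>
    intro x hx v
    rw [Module.End.mul_apply, Module.End.mul_apply, hb x hx, ha x hx]

/-- `V` indecomposable -/
theorem Dat.evN_ind [Finite F] (h : Dat Q R) (h2 : (2 : F) ≠ 0) (h4 : 4 ∣ finrank F V) {r : ℕ} (hr : r.Prime)
    (hr2 : r ≠ 2) (hrF : (r : F) ≠ 0) (hpow : ∀ x ∈ R, x ^ r = 1) (h0 : Fx R = ⊥)
    (hind : ∀ W : Submodule F V, ND Q W → Inv R W → W = ⊥ ∨ perp Q W = ⊥) : EvN Q R := by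
  have hRf : Fintype R := Fintype.ofFinite R
  have hcard : (Fintype.card R : F) ≠ 0 := by rw [← Nat.card_eq_fintype_card]; exact h.card
  have hQ := h.good.nondeg
  have hdim := h.good.dim
  have hT : ND Q (⊤ : Submodule F V) := fun w _ hw => hQ w (fun y => hw y trivial)
  have hTop : ∀ W : Submodule F V, ND Q W → perp Q W = ⊥ → W = ⊤ := by
    intro W hW hp
    rw [eq_top_iff]
    intro v _
    obtain ⟨w, hw, z, hz, rfl⟩ := split hW v
    rw [hp, Submodule.mem_bot] at hz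
    rw [hz, add_zero]
    exact hw
  -- a cyclic vector
  obtain ⟨u, hu⟩ : ∃ u, cyc R u = ⊤ := by
    obtain ⟨S, hS⟩ := exists_fam (U := (⊤ : Submodule F V)) h.le hcard h.odd _ le_rfl hT (fun _ _ _ _ => trivial)
      (by rw [h0, inf_bot_eq])
    have hSne : S.Nonempty := by
      by_contra hcon
      rw [Set.not_nonempty_iff_eq_empty] at hcon
      have h5 := hS.span
      have h6 : {w | ∃ u ∈ S, ∃ x ∈ R, w = x u} = (∅ : Set V) := by
        rw [Set.eq_empty_iff_forall_notMem]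
        rintro _ ⟨v, hv, -⟩
        rw [hcon] at hv
        exact hv
      rw [h6, Submodule.span_empty, top_le_iff] at h5
      have h7 : finrank F (⊤ : Submodule F V) = 0 := by rw [← h5, finrank_bot]
      rw [finrank_top] at h7
      omega
    obtain ⟨u, hu⟩ := hSne
    refine ⟨u, ?_⟩
    rcases hind _ (hS.nd u hu) (inv_cyc u) with h5 | h5
    · exfalso
      apply hS.ne u hu
      have h6 := self_mem_cyc (R := R) u
      rw [h5] at h6
      exact h6
    · exact hTop _ (hS.nd u hu) h5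
  -- a minimal invariant subspace
  obtain ⟨M, ⟨hMi, hM⟩, hmin⟩ : ∃ M : Submodule F V, (Inv R M ∧ M ≠ ⊥) ∧
      ∀ W : Submodule F V, (Inv R W ∧ W ≠ ⊥) → finrank F M ≤ finrank F W := by
    have hex : ∃ n, ∃ M : Submodule F V, (Inv R M ∧ M ≠ ⊥) ∧ finrank F M = n := by
      refine ⟨_, ⊤, ⟨fun _ _ _ _ => trivial, ?_⟩, rfl⟩
      intro h5
      have h7 : finrank F (⊤ : Submodule F V) = 0 := by rw [h5, finrank_bot]
      rw [finrank_top] at h7
      omega
    classical
    obtain ⟨M, hM, hMn⟩ := Nat.find_spec hex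
    exact ⟨M, hM, fun W hW => by rw [hMn]; exact Nat.find_min' hex ⟨W, hW, rfl⟩⟩
  have hirr : ∀ W ≤ M, Inv R W → W = ⊥ ∨ W = M := by
    intro W hWM hW
    by_cases hW0 : W = ⊥
    · exact Or.inl hW0
    · exact Or.inr (Submodule.eq_of_le_of_finrank_le hWM (hmin W ⟨hW, hW0⟩))
  rcases hirr (M ⊓ perp Q M) inf_le_left (inv_inf hMi (inv_perp h.le hMi)) with hD | hD
  · -- irreducible
    have hMnd : ND Q M := by
      intro w hw h5
      have h6 : w ∈ M ⊓ perp Q M := ⟨hw, h5⟩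
      rw [hD] at h6
      exact h6
    have hMT : M = ⊤ := hTop M hMnd ((hind M hMnd hMi).resolve_left hM)
    refine H442.IFO.evN_field h.good h2 h4 h.le h.comm hr hr2 hrF hpow h.ne ?_ u ?_
    · intro a ha ha0
      have hac := comm_adjoin h.comm ha
      have hki : Inv R (LinearMap.ker a) := by
        intro x hx v hv
        rw [LinearMap.mem_ker] at hv ⊢
        rw [hac x hx, hv, map_zero]
      rcases hirr (LinearMap.ker a) (by rw [hMT]; exact le_top) hki with h5 | h5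
      · exact LinearMap.ker_eq_bot.1 h5
      · exfalso
        apply ha0
        apply LinearMap.ext
        intro v
        have h6 : v ∈ LinearMap.ker a := by rw [h5, hMT]; trivial
        exact h6
    · intro v
      have hv : v ∈ cyc R u := by rw [hu]; trivial
      induction hv using Submodule.span_induction with
      | mem w hw =>
        obtain ⟨x, hx, rfl⟩ := hw
        exact ⟨(x : V →ₗ[F] V), Algebra.subset_adjoin ⟨x, hx, rfl⟩, rfl⟩
      | zero => exact ⟨0, Subalgebra.zero_mem _, rfl⟩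
      | add v w _ _ hv hw =>
        obtain ⟨a, ha, rfl⟩ := hv
        obtain ⟨b, hb, rfl⟩ := hw
        exact ⟨a + b, Subalgebra.add_mem _ ha hb, rfl⟩
      | smul c v _ hv =>
        obtain ⟨a, ha, rfl⟩ := hv
        exact ⟨c • a, Subalgebra.smul_mem _ ha c, rfl⟩
  · exfalso
    have hMM : M ≤ perp Q M := by
      intro v hv
      rw [← hD] at hv
      exact hv.2
    -- `perp M = M`
    have hMp : perp Q M = M := by
      obtain ⟨D', hD'⟩ := Submodule.exists_isCompl M
      let π0 : V →ₗ[F] V := M.subtype ∘ₗ (M.projectionOnto D' hD')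
      have hπ0 : ∀ v, π0 v ∈ M := fun v => (M.projectionOnto D' hD' v).2
      have hπ1 : ∀ v ∈ M, π0 v = v := by
        intro v hv
        change ((M.projectionOnto D' hD' v : M) : V) = v
        rw [Submodule.projectionOnto_apply_left hD' ⟨v, hv⟩]
      set π := av R π0 with hπ
      have hπm : ∀ v, π v ∈ M := av_mem hMi hπ0
      have hπi : ∀ v ∈ M, π v = v := fun v hv => av_id hcard hMi hπ1 hv
      have hπc : ∀ x ∈ R, ∀ v, x (π v) = π (x v) := fun x hx v => av_comm π0 hx v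
      set N := perp Q M ⊓ LinearMap.ker π with hN
      have hNi : Inv R N := by
        apply inv_inf (inv_perp h.le hMi)
        intro x hx v hv
        rw [LinearMap.mem_ker] at hv ⊢
        rw [← hπc x hx, hv, map_zero]
      have hdec : ∀ y ∈ perp Q M, y - π y ∈ N := by
        intro y hy
        refine ⟨(perp Q M).sub_mem hy (hMM (hπm y)), ?_⟩
        rw [SetLike.mem_coe, LinearMap.mem_ker, map_sub, hπi _ (hπm y), sub_self]
      have hNnd : ND Q N := by
        intro v hv hvN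
        have h5 : v ∈ perp Q (perp Q M) := by
          intro y hy
          have h6 : y = π y + (y - π y) := by abel
          rw [h6, polar_add_right, hv.1 _ (hπm y), hvN _ (hdec y hy), add_zero]
        rw [perp_perp hQ] at h5
        have h6 : π v = 0 := hv.2
        rw [← hπi v h5, h6]
      rcases hind N hNnd hNi with h5 | h5
      · apply le_antisymm _ hMM
        intro y hy
        have h6 := hdec y hy
        rw [h5, Submodule.mem_bot, sub_eq_zero] at h6
        rw [h6]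
        exact hπm y
      · exfalso
        apply hM
        rw [eq_bot_iff, ← h5]
        intro m hm n hn
        rw [polar_comm]
        exact hn.1 m hm
    have hfin := finrank_perp hQ M
    rw [hMp] at hfin
    have hMle := Submodule.finrank_le M
    have hn : finrank F V = 2 * finrank F M := by omega
    refine H283.Fxo.no_swap hQ h.le h.comm hr hpow hM hMi hirr (by rw [h0, inf_bot_eq]) hMM ?_ hn u hu
    rw [even_iff_two_dvd]
    obtain ⟨k, hk⟩ := h4
    exact ⟨k, by omega⟩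

/-- **`EvN` for `4 ∣ n`.** -/
theorem evN_four [Finite F] (hG : Good Q) (h4 : 4 ∣ finrank F V) (hR : R ≤ O Q)
    (hc : ∀ x ∈ R, ∀ y ∈ R, x * y = y * x) {r : ℕ} (hr : r.Prime) (hr2 : r ≠ 2) (hrF : (r : F) ≠ 0)
    (hpow : ∀ x ∈ R, x ^ r = 1) (hR1 : R ≠ ⊥) : EvN Q R := by
  have hodd : ∀ x ∈ R, ∀ v, x (x v) = v → x v = v := by
    intro x hx v hv
    obtain ⟨k, hk⟩ := hr.odd_of_ne_two hr2
    have h5 : ∀ i : ℕ, (x ^ (2 * i)) v = v := by
      intro i
      induction i with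
      | zero => rfl
      | succ i ih =>
        have e : x ^ (2 * (i + 1)) = x ^ (2 * i) * (x * x) := by rw [← pow_two, ← pow_add]; ring_nf
        rw [e]
        change (x ^ (2 * i)) (x (x v)) = v
        rw [hv, ih]
    have h6 : (x ^ r) v = v := by rw [hpow x hx]; rfl
    rw [hk, pow_succ'] at h6
    change x ((x ^ (2 * k)) v) = v at h6
    rwa [h5] at h6
  have hcard : (Nat.card R : F) ≠ 0 := by
    have : Fact r.Prime := ⟨hr⟩
    have hp : IsPGroup r R := by
      intro x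
      refine ⟨1, ?_⟩
      rw [pow_one]
      exact Subtype.ext (hpow x x.2)
    obtain ⟨k, hk⟩ := IsPGroup.iff_card.1 hp
    rw [hk, Nat.cast_pow]
    exact pow_ne_zero _ hrF
  have h : Dat Q R := ⟨hG, hR, hc, hcard, hodd, hR1⟩
  by_cases h2 : (2 : F) = 0
  · exact h.evN_two h2 h4
  by_cases h0 : Fx R = ⊥
  · by_cases hind : ∀ W : Submodule F V, ND Q W → Inv R W → W = ⊥ ∨ perp Q W = ⊥
    · exact h.evN_ind h2 h4 hr hr2 hrF hpow h0 hind
    · push Not at hind
      obtain ⟨W, hW, hWi, hW1, hW2⟩ := hind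
      exact h.evN_of_dec h2 h4 hW hWi (by rw [h0, inf_bot_eq]) hW1 hW2
  · exact h.evN_fix h2 h4 h0

end Dat

end Cfsg.Agent.H626.IFO
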