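import Cfsg.Agent.H626.IFO.Inv
import Cfsg.Agent.H382.Own5Lin

/-!
# S5719, `|A|` odd, orthogonal groups: the eigenspaces of the inverting isometry (helper626)
-/

set_option autoImplicit false

namespace Cfsg.Agent.H626.IFO

open QuadraticMap Cfsg.Agent.LieClassical.OrthCore Module Cfsg.Agent.H382.Own5

variable {F V : Type*} [Field F] [AddCommGroup V] [Module F V] {Q : QuadraticForm F V}

/-- the projection on the fixed space -/
noncomputable def es (H : Subgroup (V ≃ₗ[F] V)) [Fintype H] : V →ₗ[F] V :=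
  (Fintype.card H : F)⁻¹ • ∑ x : H, ((x : V ≃ₗ[F] V) : V →ₗ[F] V)

section es

variable {H : Subgroup (V ≃ₗ[F] V)} [Fintype H]

theorem es_apply (v : V) : es H v = (Fintype.card H : F)⁻¹ • ∑ x : H, (x : V ≃ₗ[F] V) v := by
  rw [es, LinearMap.smul_apply, LinearMap.sum_apply]
  rfl

theorem es_fix {y : V ≃ₗ[F] V} (hy : y ∈ H) (v : V) : y (es H v) = es H v := by
  rw [es_apply, map_smul, map_sum]
  congr 1
  exact Fintype.sum_equiv (Equiv.mulLeft (⟨y, hy⟩ : H)) _ _ (fun x => rfl)

theorem es_zero {y : V ≃ₗ[F] V} (hy : y ∈ H) (v : V) : es H (y v) = es H v := by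
  rw [es_apply, es_apply]
  congr 1
  exact Fintype.sum_equiv (Equiv.mulRight (⟨y, hy⟩ : H)) _ _ (fun x => rfl)

theorem es_id (hcard : (Fintype.card H : F) ≠ 0) {v : V} (hv : v ∈ Fx H) : es H v = v := by
  have h1 : ∀ x : H, (x : V ≃ₗ[F] V) v = v := fun x => hv _ (SetLike.coe_mem x)
  rw [es_apply, Finset.sum_congr rfl (fun x _ => h1 x), Finset.sum_const, Finset.card_univ,
    ← Nat.cast_smul_eq_nsmul F, smul_smul, inv_mul_cancel₀ hcard, one_smul]

theorem es_mem {W : Submodule F V} (hW : Inv H W) {v : V} (hv : v ∈ W) : es H v ∈ W := by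
  rw [es_apply]
  exact W.smul_mem _ (W.sum_mem fun x _ => hW x x.2 _ hv)

theorem es_anti {g : V →ₗ[F] V} {v : V} (hg : ∀ x ∈ H, g (x v) = (x⁻¹ : V ≃ₗ[F] V) (g v)) :
    g (es H v) = es H (g v) := by
  rw [es_apply, es_apply, map_smul, map_sum]
  congr 1
  exact Fintype.sum_equiv (Equiv.inv H) _ _ (fun x => hg x x.2)

theorem es_mem_Fx (v : V) : es H v ∈ Fx H := fun _ hy => es_fix hy v

end es

variable {R : Subgroup (V ≃ₗ[F] V)}

theorem inv_Fx (hc : ∀ x ∈ R, ∀ y ∈ R, x * y = y * x) {H : Subgroup (V ≃ₗ[F] V)} (hH : H ≤ R) : Inv R (Fx H) := by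
  intro x hx v hv y hy
  have h1 := hc y (hH hy) x hx
  rw [← LinearEquiv.mul_apply, h1, LinearEquiv.mul_apply, hv y hy]

/-- a polynomial in `R`, anti-commuting with every inverting map, with small kernel -/
theorem exists_j [Finite R] (hc : ∀ x ∈ R, ∀ y ∈ R, x * y = y * x) (hcard : (Nat.card R : F) ≠ 0)
    (hodd : ∀ x ∈ R, ∀ v, x (x v) = v → x v = v) (L : List (V ≃ₗ[F] V)) (hL : ∀ x ∈ L, x ∈ R) :
    ∃ j : V →ₗ[F] V, (∀ W : Submodule F V, Inv R W → ∀ v ∈ W, j v ∈ W) ∧
      (∀ W : Submodule F V, Inv R W → ∀ g : V →ₗ[F] V, (∀ v ∈ W, g v ∈ W) →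
        (∀ x ∈ R, ∀ v ∈ W, g (x v) = (x⁻¹ : V ≃ₗ[F] V) (g v)) → ∀ v ∈ W, g (j v) = - j (g v)) ∧
      (∀ v, j v = 0 → ∀ x ∈ L, x v = v) := by
  induction L with
  | nil => exact ⟨0, fun W _ v _ => W.zero_mem, fun W _ g _ _ v _ => by
      rw [LinearMap.zero_apply, LinearMap.zero_apply, map_zero, neg_zero], fun v _ x hx => absurd hx List.not_mem_nil⟩
  | cons x L ih =>
    obtain ⟨j, h1, h2, h3⟩ := ih (fun y hy => hL y (List.mem_cons_of_mem _ hy))
    have hxR : x ∈ R := hL x List.mem_cons_self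
    set H := Subgroup.zpowers x with hH
    have hHR : H ≤ R := (Subgroup.zpowers_le).2 hxR
    have : Finite H := Finite.of_injective (Subgroup.inclusion hHR) (Subgroup.inclusion_injective hHR)
    have : Fintype H := Fintype.ofFinite H
    have hxH : x ∈ H := Subgroup.mem_zpowers x
    have hcH : (Fintype.card H : F) ≠ 0 := by
      intro h0
      obtain ⟨k, hk⟩ := Subgroup.card_dvd_of_le hHR
      apply hcard
      rw [hk, Nat.card_eq_fintype_card, Nat.cast_mul, h0, zero_mul]
    have hFx : ∀ v, x v = v → v ∈ Fx H := by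
      intro v hv y hy
      have h4 : H ≤ MulAction.stabilizer (V ≃ₗ[F] V) v := by
        rw [hH, Subgroup.zpowers_le]
        exact hv
      exact h4 hy
    have hWH : ∀ W : Submodule F V, Inv R W → Inv H W := fun W hW y hy => hW y (hHR hy)
    refine ⟨((x : V ≃ₗ[F] V) : V →ₗ[F] V) - (((x⁻¹ : V ≃ₗ[F] V)) : V →ₗ[F] V) + j ∘ₗ es H, ?_, ?_, ?_⟩
    · intro W hW v hv
      exact W.add_mem (W.sub_mem (hW x hxR v hv) (hW _ (inv_mem hxR) v hv)) (h1 W hW _ (es_mem (hWH W hW) hv))
    · intro W hW g hg hgx v hv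
      change g (x v - (x⁻¹ : V ≃ₗ[F] V) v + j (es H v)) = -(x (g v) - (x⁻¹ : V ≃ₗ[F] V) (g v) + j (es H (g v)))
      rw [map_add, map_sub, hgx x hxR v hv, hgx _ (inv_mem hxR) v hv, inv_inv,
        h2 W hW g hg hgx _ (es_mem (hWH W hW) hv), es_anti (fun y hy => hgx y (hHR hy) v hv)]
      abel
    · intro v hv
      have h0 : x v - (x⁻¹ : V ≃ₗ[F] V) v + j (es H v) = 0 := hv
      have h4 : es H v ∈ Fx H := es_mem_Fx v
      have h5 : j (es H v) ∈ Fx H := h1 _ (inv_Fx hc hHR) _ h4
      have h6 : es H (x v - (x⁻¹ : V ≃ₗ[F] V) v) = 0 := by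
        rw [map_sub, es_zero hxH, es_zero (inv_mem hxH), sub_self]
      have h7 : j (es H v) = 0 := by
        have h8 := congrArg (es H) h0
        rwa [map_add, h6, zero_add, es_id hcH h5, map_zero] at h8
      have h8 : x v = v := by
        rw [h7, add_zero, sub_eq_zero] at h0
        apply hodd x hxR
        rw [h0]
        exact LinearEquiv.apply_symm_apply x v
      rw [es_id hcH (hFx v h8)] at h7
      intro y hy
      rcases List.mem_cons.1 hy with rfl | hy
      · exact h8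
      · exact h3 v h7 y hy

/-- the `1`- and `-1`-eigenspaces of the inverting isometry have the same dimension -/
theorem finrank_eq [FiniteDimensional F V] [Finite R] (h2 : (2 : F) ≠ 0) (hc : ∀ x ∈ R, ∀ y ∈ R, x * y = y * x)
    (hcard : (Nat.card R : F) ≠ 0) (hodd : ∀ x ∈ R, ∀ v, x (x v) = v → x v = v) {W : Submodule F V} (hW : ND Q W)
    (hWi : Inv R W) (hW0 : W ⊓ Fx R = ⊥) {g : V →ₗ[F] V} (hg2 : ∀ v, g (g v) = v)
    (hgp : ∀ v ∈ perp Q W, g v = v) (hgW : ∀ v ∈ W, g v ∈ W)
    (hgx : ∀ x ∈ R, ∀ v ∈ W, g (x v) = (x⁻¹ : V ≃ₗ[F] V) (g v)) :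
    finrank F W = 2 * finrank F (eig g (-1)) := by
  obtain ⟨L, hL⟩ : ∃ L : List (V ≃ₗ[F] V), ∀ x, x ∈ L ↔ x ∈ R := by
    have h1 : (R : Set (V ≃ₗ[F] V)).Finite := Set.toFinite _
    exact ⟨h1.toFinset.toList, fun x => by rw [Finset.mem_toList, Set.Finite.mem_toFinset]; rfl⟩
  obtain ⟨j, hj1, hj2, hj3⟩ := exists_j hc hcard hodd L (fun x hx => (hL x).1 hx)
  have hker : ∀ v ∈ W, j v = 0 → v = 0 := by
    intro v hv h
    have h1 : v ∈ W ⊓ Fx R := ⟨hv, fun x hx => hj3 v h x ((hL x).2 hx)⟩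
    rw [hW0] at h1
    exact h1
  have hjg := hj2 W hWi g hgW hgx
  set Wm := eig g (-1) with hWm
  set Wp := W ⊓ eig g 1 with hWp
  have hmem : ∀ v, v ∈ Wm ↔ g v = -v := by
    intro v
    rw [hWm, mem_eig, neg_smul, one_smul]
  have hmemp : ∀ v, v ∈ eig g 1 ↔ g v = v := by
    intro v
    rw [mem_eig, one_smul]
  have hle : Wm ≤ W := by
    intro v hv
    rw [hmem] at hv
    obtain ⟨w, hw, z, hz, rfl⟩ := split hW v
    rw [map_add, hgp z hz, neg_add] at hv
    have h3 : g w + w = -z - z := by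
      have : g w = -w + -z - z := by rw [← hv]; abel
      rw [this]; abel
    have h4 : -z - z = 0 := by
      apply hW _ (by rw [← h3]; exact W.add_mem (hgW w hw) hw)
      intro a ha
      rw [polar_sub_left, polar_neg_left, hz a ha, neg_zero, sub_zero]
    have h5 : (2 : F) • z = 0 := by
      rw [two_smul]
      have : z + z = -(-z - z) := by abel
      rw [this, h4, neg_zero]
    rw [(smul_eq_zero.1 h5).resolve_left h2, add_zero]
    exact hw
  have hsup : Wp ⊔ Wm = W := by
    apply le_antisymm (sup_le inf_le_left hle)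
    intro v hv
    have h3 : v = (2 : F)⁻¹ • (v + g v) + (2 : F)⁻¹ • (v - g v) := by
      rw [← smul_add]
      have : v + g v + (v - g v) = (2 : F) • v := by rw [two_smul]; abel
      rw [this, smul_smul, inv_mul_cancel₀ h2, one_smul]
    rw [h3]
    apply Submodule.add_mem_sup
    · refine ⟨W.smul_mem _ (W.add_mem hv (hgW v hv)), ?_⟩
      rw [SetLike.mem_coe, hmemp, map_smul, map_add, hg2, add_comm]
    · rw [hmem, map_smul, map_sub, hg2, ← smul_neg, neg_sub]
  have hinf : Wp ⊓ Wm = ⊥ := by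
    rw [eq_bot_iff]
    rintro v ⟨⟨-, h3⟩, h4⟩
    rw [SetLike.mem_coe, hmemp] at h3
    rw [SetLike.mem_coe, hmem, h3] at h4
    have h5 : (2 : F) • v = 0 := by
      rw [two_smul]
      nth_rewrite 1 [h4]
      rw [neg_add_cancel]
    exact (smul_eq_zero.1 h5).resolve_left h2
  have hsum := Submodule.finrank_sup_add_finrank_inf_eq Wp Wm
  rw [hsup, hinf, finrank_bot, add_zero] at hsum
  have hpm : finrank F Wp ≤ finrank F Wm := by
    refine LinearMap.finrank_le_finrank_of_injective (f := (j.restrict (p := Wp) (q := Wm) ?_)) ?_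
    · intro v hv
      rw [hmem, hjg v hv.1, (hmemp v).1 hv.2]
    · rw [injective_iff_map_eq_zero]
      intro v hv
      exact Subtype.ext (hker v v.2.1 (congrArg Subtype.val hv))
  have hmp : finrank F Wm ≤ finrank F Wp := by
    refine LinearMap.finrank_le_finrank_of_injective (f := (j.restrict (p := Wm) (q := Wp) ?_)) ?_
    · intro v hv
      refine ⟨hj1 W hWi v (hle hv), ?_⟩
      rw [SetLike.mem_coe, hmemp, hjg v (hle hv), (hmem v).1 hv, map_neg, neg_neg]
    · rw [injective_iff_map_eq_zero]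
      intro v hv
      exact Subtype.ext (hker v (hle v.2) (congrArg Subtype.val hv))
  omega

/-- characteristic two: the inverting isometry `g` of the whole space: `g - 1` has rank `n / 2` -/
theorem finrank_range [FiniteDimensional F V] [Fintype R] (h2 : (2 : F) = 0)
    (hodd : ∀ x ∈ R, ∀ v, x (x v) = v → x v = v) (h0 : Fx R = ⊥) {g : V →ₗ[F] V} (hg2 : ∀ v, g (g v) = v)
    (hgx : ∀ x ∈ R, ∀ v, g (x v) = (x⁻¹ : V ≃ₗ[F] V) (g v)) :
    finrank F V = 2 * finrank F (LinearMap.range (g - LinearMap.id)) := by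
  classical
  have hneg : ∀ v : V, -v = v := by
    intro v
    have h3 : (2 : F) • v = 0 := by rw [h2, zero_smul]
    rw [two_smul] at h3
    exact (eq_neg_of_add_eq_zero_left h3).symm
  let f : R ≃ Fin (Fintype.card R) := Fintype.equivFin R
  let A : V → V := fun v => ∑ x ∈ Finset.univ.filter (fun x : R => f x < f x⁻¹), (x : V ≃ₗ[F] V) v
  let A' : V → V := fun v => ∑ x ∈ Finset.univ.filter (fun x : R => f x < f x⁻¹), ((x : V ≃ₗ[F] V)⁻¹ : V ≃ₗ[F] V) v
  have hinv1 : ∀ x : R, f x = f x⁻¹ → x = 1 := by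
    intro x hx
    have h3 : x = x⁻¹ := f.injective hx
    apply Subtype.ext
    apply LinearEquiv.ext
    intro v
    apply hodd x x.2
    have h4 : (x : V ≃ₗ[F] V) = (x : V ≃ₗ[F] V)⁻¹ := congrArg Subtype.val h3
    nth_rewrite 1 [h4]
    exact LinearEquiv.symm_apply_apply (x : V ≃ₗ[F] V) v
  have hA : ∀ v, A v + A' v = v := by
    intro v
    have h3 : ∑ x : R, (x : V ≃ₗ[F] V) v = 0 := by
      have h4 : ∑ x : R, (x : V ≃ₗ[F] V) v ∈ Fx R := by
        intro y hy
        rw [map_sum]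
        exact Fintype.sum_equiv (Equiv.mulLeft (⟨y, hy⟩ : R)) _ _ (fun x => rfl)
      rw [h0] at h4
      exact h4
    have h5 : ∑ x : R, (x : V ≃ₗ[F] V) v = A v + (A' v + v) := by
      rw [← Finset.sum_filter_add_sum_filter_not Finset.univ (fun x : R => f x < f x⁻¹)]
      congr 1
      rw [← Finset.sum_filter_add_sum_filter_not (Finset.univ.filter (fun x : R => ¬ f x < f x⁻¹))
        (fun x : R => f x⁻¹ < f x)]
      congr 1
      · refine Finset.sum_bij' (fun x _ => x⁻¹) (fun x _ => x⁻¹) ?_ ?_ ?_ ?_ ?_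
        · intro x hx
          rw [Finset.mem_filter] at hx
          rw [Finset.mem_filter, inv_inv]
          exact ⟨Finset.mem_univ _, hx.2⟩
        · intro x hx
          rw [Finset.mem_filter] at hx
          rw [Finset.mem_filter, Finset.mem_filter, inv_inv]
          exact ⟨⟨Finset.mem_univ _, not_lt.2 hx.2.le⟩, hx.2⟩
        · intro x _
          exact inv_inv x
        · intro x _
          exact inv_inv x
        · intro x _
          rw [Subgroup.coe_inv, inv_inv]
      · have h6 : (Finset.univ.filter (fun x : R => ¬ f x < f x⁻¹)).filter (fun x : R => ¬ f x⁻¹ < f x) = {1} := by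
          ext x
          rw [Finset.mem_filter, Finset.mem_filter, Finset.mem_singleton]
          constructor
          · rintro ⟨⟨-, h7⟩, h8⟩
            exact hinv1 x (le_antisymm (not_lt.1 h8) (not_lt.1 h7))
          · rintro rfl
            rw [inv_one]
            exact ⟨⟨Finset.mem_univ _, lt_irrefl _⟩, lt_irrefl _⟩
        rw [h6, Finset.sum_singleton]
        rfl
    rw [h3, ← add_assoc] at h5
    have h6 := eq_neg_of_add_eq_zero_left h5.symm
    rw [h6, hneg]
  have hgA : ∀ v, g v = v → g (A v) = A' v := by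
    intro v hv
    change g (∑ x ∈ Finset.univ.filter (fun x : R => f x < f x⁻¹), (x : V ≃ₗ[F] V) v) = _
    rw [map_sum]
    apply Finset.sum_congr rfl
    intro x _
    rw [hgx x x.2, hv]
  have hrk : LinearMap.range (g - LinearMap.id) = LinearMap.ker (g - LinearMap.id) := by
    ext v
    rw [LinearMap.mem_ker, LinearMap.mem_range]
    constructor
    · rintro ⟨w, rfl⟩
      change g (g w - w) - (g w - w) = 0
      rw [map_sub, hg2, sub_eq_zero]
      nth_rewrite 1 [← hneg (w - g w)]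
      rw [neg_sub]
    · intro hv
      have hv' : g v = v := sub_eq_zero.1 hv
      refine ⟨A v, ?_⟩
      change g (A v) - A v = v
      rw [hgA v hv', sub_eq_add_neg, hneg, add_comm]
      exact hA v
  have h3 := LinearMap.finrank_range_add_finrank_ker (g - LinearMap.id)
  rw [← hrk] at h3
  omega

end Cfsg.Agent.H626.IFO
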